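import Groth.Agent.NeronHDLib.IntClosureNormal
import Groth.Agent.S9672
import Groth.Agent.S9799

/-!
# The normalization of a scheme in a normal scheme
-/

set_option backward.isDefEq.respectTransparency false
set_option backward.isDefEq.respectTransparency.types false
set_option linter.style.haveILetI false

universe u

open CategoryTheory CategoryTheory.Limits AlgebraicGeometry TopologicalSpace

namespace Groth.Agent.NormSrc

open Groth.Agent Groth.Agent.NeronHDLib

/-- An integrally closed subring of the sections over a finite disjoint union of normal integral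
opens is normal. -/
theorem isNormalRing_of_decomposition {X : Scheme.{u}} (hX : Pi1.IsNormalScheme X) (V : X.Opens)
    {I : Type u} [Finite I] (W : I → X.Opens) (hWV : ∀ i, W i ≤ V)
    (hW : ∀ i, AlgebraicGeometry.IsIntegral (W i).toScheme) (hcov : V ≤ ⨆ i, W i)
    (hdis : Pairwise fun i j => Disjoint (W i) (W j)) (C : Subring Γ(X, V))
    (hC : ∀ b : Γ(X, V), _root_.IsIntegral C b → b ∈ C) : EGA4.IsNormalRing C := by
  classical
  let π : ∀ i, Γ(X, V) →+* Γ(X, W i) := fun i => (X.presheaf.map (homOfLE (hWV i)).op).hom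
  have hext : ∀ a b : Γ(X, V), (∀ i, π i a = π i b) → a = b := fun a b h =>
    X.sheaf.eq_of_locally_eq' W V (fun i => homOfLE (hWV i)) hcov a b h
  have hglue : ∀ x : ∀ i, Γ(X, W i), ∃ a : Γ(X, V), ∀ i, π i a = x i := by
    intro x
    obtain ⟨a, ha, -⟩ := X.sheaf.existsUnique_gluing' W V (fun i => homOfLE (hWV i)) hcov x
      (fun i j => by
        rcases eq_or_ne i j with rfl | hne
        · rfl
        · have hb : W i ⊓ W j = ⊥ := disjoint_iff.1 (hdis hne)
          have : Subsingleton Γ(X, W i ⊓ W j) := by rw [hb]; infer_instance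
          exact this.elim _ _)
    exact ⟨a, ha⟩
  have hne : ∀ i, Nonempty (W i) := fun i =>
    have := hW i
    ⟨genericPoint (W i).toScheme⟩
  have hdom : ∀ i, IsDomain Γ(X, W i) := fun i => by
    have := hW i
    exact (W i).topIso.commRingCatIsoToRingEquiv.symm.toMulEquiv.isDomain _
  let D : ∀ i, Subring Γ(X, W i) := fun i => C.map (π i)
  have hlift : ∀ i (x : Γ(X, W i)), _root_.IsIntegral (D i) x →
      ∃ a ∈ C, π i a = x ∧ ∀ j, j ≠ i → π j a = 0 := by
    rintro i x ⟨p, hp, hpx⟩
    let r : C →+* D i := ((π i).comp C.subtype).codRestrict (D i) fun c => ⟨c.1, c.2, rfl⟩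
    have hr : Function.Surjective r := by
      rintro ⟨_, c, hc, rfl⟩
      exact ⟨⟨c, hc⟩, rfl⟩
    obtain ⟨p', hp', -, hp'm⟩ := Polynomial.lifts_and_degree_eq_and_monic
      (Polynomial.mem_lifts p |>.2 (Polynomial.map_surjective r hr p)) hp
    obtain ⟨a, ha⟩ := hglue (Function.update (fun _ => 0) i x)
    have hai : π i a = x := by rw [ha, Function.update_self]
    have haj : ∀ j, j ≠ i → π j a = 0 := fun j hj => by rw [ha, Function.update_of_ne hj]
    refine ⟨a, hC a ⟨Polynomial.X * p', Polynomial.monic_X.mul hp'm, hext _ _ fun j => ?_⟩, hai, haj⟩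
    rw [Polynomial.eval₂_mul, Polynomial.eval₂_X, map_mul, map_zero]
    rcases eq_or_ne j i with rfl | hj
    · rw [hai, Polynomial.hom_eval₂, hai]
      rw [← hp', Polynomial.eval₂_map] at hpx
      rw [show (π j).comp (algebraMap C Γ(X, V)) = (algebraMap (D j) Γ(X, W j)).comp r from rfl,
        hpx, mul_zero]
    · rw [haj j hj, zero_mul]
  let e : C →+* ∀ i, D i :=
    Pi.ringHom fun i => ((π i).comp C.subtype).codRestrict (D i) fun c => ⟨c.1, c.2, rfl⟩
  have he : Function.Bijective e := by
    refine ⟨fun a b h => Subtype.ext (hext _ _ fun i => congrArg Subtype.val (congrFun h i)),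
      fun y => ?_⟩
    choose a haC hai haj using fun i => hlift i (y i : Γ(X, W i))
      (isIntegral_algebraMap (R := D i) (A := Γ(X, W i)) (x := y i))
    cases nonempty_fintype I
    refine ⟨⟨∑ i, a i, sum_mem fun i _ => haC i⟩, funext fun i => Subtype.ext ?_⟩
    show π i (∑ j, a j) = (y i : Γ(X, W i))
    rw [map_sum, Finset.sum_eq_single i (fun j _ hj => haj j i hj.symm)
      (fun h => absurd (Finset.mem_univ i) h), hai]
  refine FlatLoc6.isNormalRing_of_ringEquiv (RingEquiv.ofBijective e he).symm ?_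
  refine S6279.result (fun i => D i) fun i => ?_
  have := hW i
  have := hdom i
  have : IsIntegrallyClosed Γ(X, W i) := isIntegrallyClosed_sections hX (W i)
  have : IsIntegrallyClosed (D i) :=
    isIntegrallyClosed_of_injective (D := D i) (B := Γ(X, W i)) Subtype.val_injective fun b hb => by
      obtain ⟨a, haC, hai, -⟩ := hlift i b hb
      exact ⟨⟨b, a, haC, hai⟩, rfl⟩
  exact isNormalRing_of_isIntegrallyClosed (D i)

variable {Y : Scheme.{u}} (hY : Pi1.IsNormalScheme Y)
  (hfin : LocallyFinite (fun Z : ↥(irreducibleComponents ↥Y) => (Z : Set ↥Y)))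

include hY in
theorem component_eq {Z Z' : Set Y} (hZ : Z ∈ irreducibleComponents Y) (hZ' : Z' ∈ irreducibleComponents Y)
    {y : Y} (h : y ∈ Z) (h' : y ∈ Z') : Z = Z' :=
  have := (hY y).1
  SchTop.irreducibleComponents_eq y hZ hZ' h h'

include hY hfin in
theorem isOpen_component {Z : Set Y} (hZ : Z ∈ irreducibleComponents Y) : IsOpen Z := by
  have h : Z = (⋃ W : {W : ↥(irreducibleComponents ↥Y) // (W : Set Y) ≠ Z}, (W.1 : Set Y))ᶜ := by
    ext y
    simp only [Set.mem_compl_iff, Set.mem_iUnion, not_exists]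
    refine ⟨fun hy W hW => W.2 (component_eq hY W.1.2 hZ hW hy), fun hy => ?_⟩
    by_contra hyZ
    exact hy ⟨⟨_, irreducibleComponent_mem_irreducibleComponents y⟩,
      fun e => hyZ (e ▸ mem_irreducibleComponent)⟩ mem_irreducibleComponent
  rw [h]
  exact ((hfin.comp_injective Subtype.val_injective).isClosed_iUnion fun W =>
    isClosed_of_mem_irreducibleComponents _ W.1.2).isOpen_compl

/-- The components meeting an open. -/
def Idx (V : Y.Opens) : Type u :=
  {Z : ↥(irreducibleComponents ↥Y) // ((Z : Set Y) ∩ V).Nonempty}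

include hfin in
theorem finite_idx {V : Y.Opens} (hV : IsCompact (V : Set Y)) : Finite (Idx V) :=
  (hfin.finite_nonempty_inter_compact hV).to_subtype

/-- The piece of an open in a component. -/
def piece (V : Y.Opens) (Z : Idx V) : Y.Opens :=
  ⟨(Z.1 : Set Y), isOpen_component hY hfin Z.1.2⟩ ⊓ V

include hY hfin in
theorem decomposition (V : Y.Opens) :
    (∀ Z, AlgebraicGeometry.IsIntegral (piece hY hfin V Z).toScheme) ∧
      V ≤ ⨆ Z, piece hY hfin V Z ∧ Pairwise fun Z Z' => Disjoint (piece hY hfin V Z) (piece hY hfin V Z') := by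
  refine ⟨fun Z => ?_, fun y hy => Opens.mem_iSup.2
    ⟨⟨⟨_, irreducibleComponent_mem_irreducibleComponents y⟩, y, mem_irreducibleComponent, hy⟩,
      mem_irreducibleComponent, hy⟩, fun Z Z' hne => ?_⟩
  · haveI := isReduced_of_isNormalScheme hY
    haveI : IrreducibleSpace (piece hY hfin V Z).toScheme :=
      Subtype.irreducibleSpace ⟨Z.2, Z.1.2.1.isPreirreducible.open_subset (piece hY hfin V Z).2
        Set.inter_subset_left⟩
    exact isIntegral_of_irreducibleSpace_of_isReduced _
  · show Disjoint _ _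
    rw [disjoint_iff, eq_bot_iff]
    intro y hy
    exact hne (Subtype.ext (Subtype.ext (component_eq hY Z.1.2 Z'.1.2 hy.1.1 hy.2.1)))

variable {X : Scheme.{u}} (f : Y ⟶ X) [QuasiCompact f] [QuasiSeparated f]

include hY hfin in
theorem isNormal_normalization : Pi1.IsNormalScheme f.normalization := by
  intro x'
  obtain ⟨_, ⟨U, hU, rfl⟩, hxU, -⟩ :=
    X.isBasis_affineOpens.exists_subset_of_mem_open (Set.mem_univ (f.fromNormalization x')) isOpen_univ
  letI := (f.app U).hom.toAlgebra
  obtain ⟨h1, h2, h3⟩ := decomposition hY hfin (f ⁻¹ᵁ U)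
  haveI := finite_idx hfin (f.isCompact_preimage hU.isCompact)
  have hC := isNormalRing_of_decomposition hY _ _ (fun _ => inf_le_right) h1 h2 h3
    (integralClosure Γ(X, U) Γ(Y, f ⁻¹ᵁ U)).toSubring fun b hb => isIntegral_trans (R := Γ(X, U))
      (A := integralClosure Γ(X, U) Γ(Y, f ⁻¹ᵁ U)) b hb
  let e : Γ(f.normalization, f.fromNormalization ⁻¹ᵁ U) ≃+* (integralClosure Γ(X, U) Γ(Y, f ⁻¹ᵁ U)).toSubring :=
    (f.normalizationObjIso hU).commRingCatIsoToRingEquiv
  have hA := FlatLoc6.isNormalRing_of_ringEquiv e.symm hC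
  have hW := hU.preimage f.fromNormalization
  replace hxU : x' ∈ f.fromNormalization ⁻¹ᵁ U := hxU
  obtain ⟨hd, hn⟩ := hA (hW.primeIdealOf ⟨x', hxU⟩).asIdeal
  let _ := TopCat.Presheaf.algebra_section_stalk f.normalization.presheaf ⟨x', hxU⟩
  have h := hW.isLocalization_stalk ⟨x', hxU⟩
  let e' : f.normalization.presheaf.stalk x' ≃+* Localization.AtPrime (hW.primeIdealOf ⟨x', hxU⟩).asIdeal :=
    (IsLocalization.algEquiv (hW.primeIdealOf ⟨x', hxU⟩).asIdeal.primeCompl (f.normalization.presheaf.stalk x')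
      (Localization.AtPrime (hW.primeIdealOf ⟨x', hxU⟩).asIdeal)).toRingEquiv
  exact ⟨e'.toMulEquiv.isDomain _, IsIntegrallyClosed.of_equiv e'.symm⟩

include hY hfin in
/-- Points of different components have unrelated images in the normalization. -/
theorem component_eq_of_specializes {y y' : Y} (h : f.toNormalization y' ⤳ f.toNormalization y)
    {Z Z' : Set Y} (hZ : Z ∈ irreducibleComponents Y) (hZ' : Z' ∈ irreducibleComponents Y)
    (hy : y ∈ Z) (hy' : y' ∈ Z') : Z = Z' := by
  classical
  by_contra hne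
  obtain ⟨_, ⟨U, hU, rfl⟩, hxU, -⟩ := X.isBasis_affineOpens.exists_subset_of_mem_open
    (Set.mem_univ (f.fromNormalization (f.toNormalization y))) isOpen_univ
  let W := f.fromNormalization ⁻¹ᵁ U
  let V := f ⁻¹ᵁ U
  letI := (f.app U).hom.toAlgebra
  have hV : f.toNormalization ⁻¹ᵁ W = V := by
    rw [← Scheme.Hom.comp_preimage, Scheme.Hom.toNormalization_fromNormalization]
  have hx : f.toNormalization y ∈ W := hxU
  have hx' : f.toNormalization y' ∈ W := h.mem_open W.2 hx
  have hyV : y ∈ V := hV.le hx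
  have hy'V : y' ∈ V := hV.le hx'
  obtain ⟨-, h2, h3⟩ := decomposition hY hfin V
  let i' : Idx V := ⟨⟨Z', hZ'⟩, y', hy', hy'V⟩
  obtain ⟨e, he, -⟩ := Y.sheaf.existsUnique_gluing' (piece hY hfin V) V (fun i => homOfLE inf_le_right)
    h2 (fun i => if i = i' then 1 else 0) (fun i j => by
      rcases eq_or_ne i j with rfl | hij
      · rfl
      · have hb : piece hY hfin V i ⊓ piece hY hfin V j = ⊥ := disjoint_iff.1 (h3 hij)
        have : Subsingleton Γ(Y, piece hY hfin V i ⊓ piece hY hfin V j) := by rw [hb]; infer_instance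
        exact this.elim _ _)
  change Γ(Y, V) at e
  have hidem : e * e = e := by
    refine Y.sheaf.eq_of_locally_eq' (piece hY hfin V) V (fun i => homOfLE inf_le_right) h2 _ _ fun i => ?_
    show (Y.presheaf.map _).hom (e * e) = (Y.presheaf.map _).hom e
    rw [map_mul]
    erw [he i]
    split_ifs <;> simp
  have hint : _root_.IsIntegral Γ(X, U) e := ⟨Polynomial.X ^ 2 - Polynomial.X,
    Polynomial.monic_X_pow_sub (Polynomial.degree_X_le.trans_lt (by norm_num)), by simp [pow_two, hidem]⟩
  let e' : (integralClosure Γ(X, U) Γ(Y, f ⁻¹ᵁ U)) := ⟨e, hint⟩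
  let c : Γ(f.normalization, W) := (f.normalizationObjIso hU).inv e'
  have hcc : c * c = c := by
    rw [← map_mul]
    exact congrArg _ (Subtype.ext hidem)
  have hle : f ⁻¹ᵁ U ≤ f.toNormalization ⁻¹ᵁ W := hV.ge
  have hc : f.toNormalization.appLE W (f ⁻¹ᵁ U) hle c = e := by
    have := congrArg (fun k => k.hom c) (f.normalizationObjIso_hom_val hU)
    refine this.symm.trans ?_
    show ((f.normalizationObjIso hU).hom ((f.normalizationObjIso hU).inv e')).1 = e
    rw [Iso.inv_hom_id_apply]
  have key : ∀ (z : Y), z ∈ V → ∀ i, z ∈ piece hY hfin V i →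
      (f.toNormalization z ∈ f.normalization.basicOpen c ↔ i = i') := by
    intro z hz i hzi
    have h1 : z ∈ Y.basicOpen e ↔ f.toNormalization z ∈ f.normalization.basicOpen c := by
      rw [← hc, Scheme.basicOpen_appLE]
      exact ⟨fun h => h.2, fun h => ⟨hz, h⟩⟩
    have h4 : Y.basicOpen ((Y.presheaf.map (homOfLE (inf_le_right : piece hY hfin V i ≤ V)).op).hom e) =
        piece hY hfin V i ⊓ Y.basicOpen e := Scheme.basicOpen_res _ _ _
    erw [he i] at h4
    rw [← h1]
    by_cases hi : i = i'
    · simp only [hi, iff_true]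
      rw [if_pos hi, Y.basicOpen_of_isUnit isUnit_one] at h4
      exact (h4.le hzi).2
    · simp only [hi, iff_false]
      rw [if_neg hi, Scheme.basicOpen_zero] at h4
      exact fun hz' => (h4.ge ⟨hzi, hz'⟩).elim
  have h1 : f.toNormalization y' ∈ f.normalization.basicOpen c :=
    (key y' hy'V i' ⟨hy', hy'V⟩).2 rfl
  have h0 : f.toNormalization y ∉ f.normalization.basicOpen c := fun hc' =>
    hne (congrArg (fun i : Idx V => (i.1 : Set Y))
      ((key y hyV ⟨⟨Z, hZ⟩, y, hy, hyV⟩ ⟨hy, hyV⟩).1 hc'))
  have h5 : f.toNormalization y ∈ f.normalization.basicOpen (1 - c) := by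
    rw [Scheme.mem_basicOpen _ _ _ hx, map_sub, map_one]
    exact IsLocalRing.isUnit_one_sub_self_of_mem_nonunits _ fun hu =>
      h0 ((Scheme.mem_basicOpen _ _ _ hx).2 hu)
  have h6 : f.toNormalization y' ∈ f.normalization.basicOpen (c * (1 - c)) := by
    rw [Scheme.basicOpen_mul]
    exact ⟨h1, h.mem_open (f.normalization.basicOpen (1 - c)).2 h5⟩
  rw [mul_sub, mul_one, hcc, sub_self, Scheme.basicOpen_zero] at h6
  exact h6.elim

include hY hfin in
theorem eq_of_specializes {y y' : Y} (hy : closure {y} ∈ irreducibleComponents Y)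
    (hy' : closure {y'} ∈ irreducibleComponents Y) (h : f.toNormalization y' ⤳ f.toNormalization y) :
    y' = y := by
  have := component_eq_of_specializes hY hfin f h hy hy' (subset_closure rfl) (subset_closure rfl)
  exact ((specializes_iff_closure_subset.2 this.le).antisymm (specializes_iff_closure_subset.2 this.ge)).eq

include hY hfin in
theorem closure_mem_irreducibleComponents {y : Y} (hy : closure {y} ∈ irreducibleComponents Y) :
    closure {f.toNormalization y} ∈ irreducibleComponents f.normalization := by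
  obtain ⟨η, hη⟩ := QuasiSober.sober (isIrreducible_irreducibleComponent (x := f.toNormalization y))
    isClosed_irreducibleComponent
  have hηc : closure {η} ∈ irreducibleComponents f.normalization :=
    hη.def.symm ▸ irreducibleComponent_mem_irreducibleComponents _
  obtain ⟨y', hy', rfl⟩ := S9672.result f η hηc
  rw [← eq_of_specializes hY hfin f hy hy' (hη.specializes mem_irreducibleComponent)]
  exact hηc

include hfin in
theorem locallyFinite_components :
    LocallyFinite (fun Z : ↥(irreducibleComponents ↥f.normalization) => (Z : Set ↥f.normalization)) := by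
  intro x'
  obtain ⟨_, ⟨U, hU, rfl⟩, hxU, -⟩ :=
    X.isBasis_affineOpens.exists_subset_of_mem_open (Set.mem_univ (f.fromNormalization x')) isOpen_univ
  refine ⟨(f.fromNormalization ⁻¹ᵁ U : Set _), (f.fromNormalization ⁻¹ᵁ U).2.mem_nhds hxU, ?_⟩
  refine Set.Finite.of_finite_image ?_ Subtype.val_injective.injOn
  refine ((hfin.finite_nonempty_inter_compact (f.isCompact_preimage hU.isCompact)).image
    (fun Z : ↥(irreducibleComponents ↥Y) => closure (f.toNormalization '' (Z : Set Y)))).subset ?_
  rintro _ ⟨Z', ⟨p, hpZ, hpW⟩, rfl⟩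
  obtain ⟨η, hη⟩ := QuasiSober.sober Z'.2.1 (isClosed_of_mem_irreducibleComponents _ Z'.2)
  have hηW : η ∈ f.fromNormalization ⁻¹ᵁ U := (hη.specializes hpZ).mem_open (Opens.isOpen _) hpW
  obtain ⟨y, hy, rfl⟩ := S9672.result f η (hη.def.symm ▸ Z'.2)
  refine ⟨⟨_, hy⟩, ⟨y, subset_closure rfl, ?_⟩, ?_⟩
  · show f y ∈ U
    rw [← Scheme.Hom.toNormalization_fromNormalization f]
    exact hηW
  · show closure (f.toNormalization '' closure {y}) = _
    rw [closure_image_closure f.toNormalization.continuous, Set.image_singleton]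
    exact hη.def

end Groth.Agent.NormSrc
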